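import Cfsg.Agent.Lib.CharTheory.Extraspecial
import Cfsg.Agent.Lib.CharTheory.ExtCriteria
import Cfsg.Agent.Lib.Blocks.Central
import Cfsg.Agent.Lib.Coprime

/-!
Extraspecial-like 2-subgroups and extensions of their faithful character.
-/

set_option autoImplicit false
set_option linter.unusedSectionVars false
set_option linter.style.haveILetI false

namespace CfsgLib.ExtraExtend

open Cfsg CfsgLib Subgroup CfsgLib.CharTheory
open scoped commutatorElement ComplexConjugate

universe u
variable {G : Type u} [Group G]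

/-- A 2-subgroup with centre of order two containing all commutators. -/
structure ES (E : Subgroup G) (z : G) : Prop where
  pgrp : IsPGroup 2 E
  mem : z ∈ E
  ne : z ≠ 1
  sq : z * z = 1
  comm : ∀ a ∈ E, Commute z a
  center : ∀ a ∈ E, (∀ b ∈ E, Commute a b) → a = 1 ∨ a = z
  derived : ∀ a ∈ E, ∀ b ∈ E, ⁅a, b⁆ = 1 ∨ ⁅a, b⁆ = z

namespace ES

variable {E : Subgroup G} {z : G} (h : ES E z)
include h

theorem inv_z : z⁻¹ = z := inv_eq_of_mul_eq_one_right h.sq

theorem comm_central {a b c : G} (ha : a ∈ E) (hb : b ∈ E) (hc : c ∈ E) : Commute ⁅a, b⁆ c := by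
  rcases h.derived a ha b hb with e | e <;> rw [e]
  · exact Commute.one_left c
  · exact h.comm c hc

theorem comm_mul_left {a b c : G} (ha : a ∈ E) (hb : b ∈ E) (hc : c ∈ E) :
    ⁅a * b, c⁆ = ⁅a, c⁆ * ⁅b, c⁆ := by
  have e : ⁅a * b, c⁆ = a * ⁅b, c⁆ * a⁻¹ * ⁅a, c⁆ := by simp only [commutatorElement_def]; group
  rw [e, ← (h.comm_central hb hc ha).eq, mul_inv_cancel_right]
  exact (h.comm_central hb hc (by
    exact mul_mem (mul_mem (mul_mem ha hc) (inv_mem ha)) (inv_mem hc))).eq

theorem comm_mul_right {a b c : G} (ha : a ∈ E) (hb : b ∈ E) (hc : c ∈ E) :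
    ⁅a, b * c⁆ = ⁅a, b⁆ * ⁅a, c⁆ := by
  have e : ⁅a, b * c⁆ = ⁅a, b⁆ * (b * ⁅a, c⁆ * b⁻¹) := by simp only [commutatorElement_def]; group
  rw [e, ← (h.comm_central ha hc hb).eq, mul_inv_cancel_right]

theorem sub {E₁ : Subgroup G} (hle : E₁ ≤ E) (hz : z ∈ E₁)
    (hc : ∀ a ∈ E₁, (∀ b ∈ E₁, Commute a b) → a = 1 ∨ a = z) : ES E₁ z where
  pgrp := h.pgrp.to_le hle
  mem := hz
  ne := h.ne
  sq := h.sq
  comm a ha := h.comm a (hle ha)
  center := hc
  derived a ha b hb := h.derived a (hle ha) b (hle hb)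

end ES

/-- The restriction of `f` to `L` is a character extending the faithful one of `E`. -/
structure IsExt (E : Subgroup G) (z : G) (L : Subgroup G) (f : G → ℂ) : Prop where
  char : IsCharacter L (fun x : L => f x)
  le : E ≤ L
  deg : f 1 * f 1 * 2 = (Nat.card E : ℂ)
  at_z : f z = -f 1
  off : ∀ e ∈ E, e ≠ 1 → e ≠ z → f e = 0

namespace IsExt

variable [Finite G] {E L : Subgroup G} {z : G} {f : G → ℂ} (hf : IsExt E z L f)
include hf

theorem mono {L' : Subgroup G} (hEL : E ≤ L') (hle : L' ≤ L) : IsExt E z L' f :=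
  { hf with char := isCharacter_comp hf.char (Subgroup.inclusion hle), le := hEL }

theorem deg_nat : ∃ d : ℕ, f 1 = d ∧ d * d * 2 = Nat.card E := by
  obtain ⟨n, ρ, hρ⟩ := hf.char
  have h1 : f 1 = (n : ℂ) := by
    have := congrFun hρ 1
    rw [Representation.char_one, Module.finrank_fin_fun] at this
    exact this.symm
  refine ⟨n, h1, ?_⟩
  have := hf.deg
  rw [h1] at this
  exact_mod_cast this

theorem norm_one (h : ES E z) [Fintype E] : classInner (fun e : E => f e) (fun e : E => f e) = 1 := by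
  classical
  obtain ⟨d, hd, hd2⟩ := hf.deg_nat
  have hne : (⟨1, one_mem _⟩ : E) ≠ ⟨z, h.mem⟩ := fun e => h.ne (congrArg Subtype.val e).symm
  simp only [classInner]
  rw [Finset.sum_eq_add_of_mem (1 : E) ⟨z, h.mem⟩ (Finset.mem_univ _) (Finset.mem_univ _) hne]
  · simp only [OneMemClass.coe_one, hf.at_z, hd, map_neg, Complex.conj_natCast]
    rw [inv_mul_eq_one₀ (Nat.cast_ne_zero.2 Nat.card_pos.ne'), ← hd2]
    push_cast; ring
  · rintro ⟨e, he⟩ _ ⟨h1, h2⟩
    rw [hf.off e he (fun e0 => h1 (Subtype.ext e0)) (fun e0 => h2 (Subtype.ext e0)), zero_mul]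

theorem irr_res (h : ES E z) : IsIrrCharacter E (fun e : E => f e) := by
  have := Fintype.ofFinite E
  exact irr_of_char_norm_one (isCharacter_comp hf.char (Subgroup.inclusion hf.le)) (hf.norm_one h)

theorem irr (h : ES E z) (hn : L ≤ normalizer (E : Set G)) : IsIrrCharacter L (fun x : L => f x) := by
  haveI : (E.subgroupOf L).Normal := (Subgroup.normal_subgroupOf_iff_le_normalizer hf.le).mpr hn
  have := Fintype.ofFinite L
  have := Fintype.ofFinite (E.subgroupOf L)
  have hres : IsIrrCharacter (E.subgroupOf L) (fun e : E.subgroupOf L => f ((e : L) : G)) :=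
    isIrrCharacter_comp_surjective (hf.irr_res h) (Subgroup.subgroupOfEquivOfLe hf.le).toMonoidHom
      (Subgroup.subgroupOfEquivOfLe hf.le).surjective
  have h1 := (gallagher (E.subgroupOf L) hf.char hres).1 (fun _ => 1) isIrrCharacter_one fun _ _ => rfl
  rwa [show ((fun _ => 1 : L → ℂ) * fun x : L => f x) = fun x : L => f x from funext fun g => one_mul _] at h1

theorem conjugate {g : G} (hEg : ∀ e ∈ E, g * e * g⁻¹ ∈ E) (hLg : ∀ x ∈ L, g * x * g⁻¹ ∈ L) (hzg : g * z * g⁻¹ = z) :
    IsExt E z L (fun x => f (g * x * g⁻¹)) where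
  char := isCharacter_comp hf.char
    { toFun := fun x : L => (⟨g * x * g⁻¹, hLg x x.2⟩ : L)
      map_one' := Subtype.ext (show g * ((1 : L) : G) * g⁻¹ = ((1 : L) : G) by simp)
      map_mul' := fun x y => Subtype.ext (show g * ((x * y : L) : G) * g⁻¹ = g * x * g⁻¹ * (g * y * g⁻¹) by
        push_cast; group) }
  le := hf.le
  deg := by simpa using hf.deg
  at_z := by simpa [hzg] using hf.at_z
  off e he h1 h2 := hf.off _ (hEg e he)
    (fun e0 => h1 (by simpa using e0))
    (fun e0 => h2 (by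
      have : g * e * g⁻¹ = g * z * g⁻¹ := e0.trans hzg.symm
      simpa using this))

/-- Two extensions agree on `E`. -/
theorem eq_on {f' : G → ℂ} {L' : Subgroup G} (hf' : IsExt E z L' f') {e : G} (he : e ∈ E) : f e = f' e := by
  obtain ⟨d, hd, hd2⟩ := hf.deg_nat
  obtain ⟨d', hd', hd2'⟩ := hf'.deg_nat
  have hdd : d = d' := Nat.mul_self_inj.1 (by omega)
  have h1 : f 1 = f' 1 := by rw [hd, hd', hdd]
  by_cases he1 : e = 1
  · rw [he1, h1]
  by_cases hez : e = z
  · rw [hez, hf.at_z, hf'.at_z, h1]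
  rw [hf.off e he he1 hez, hf'.off e he he1 hez]

end IsExt

/-- The data of a character of `L` as a function on `G`. -/
theorem exists_fun {L : Subgroup G} (χ : L → ℂ) : ∃ f : G → ℂ, ∀ x : L, f x = χ x :=
  ⟨Function.extend Subtype.val χ 0, fun x => Subtype.val_injective.extend_apply χ 0 x⟩

theorem isExt_of_extends [Finite G] {E L : Subgroup G} {z : G} {f f' : G → ℂ} {L' : Subgroup G}
    (hf : IsExt E z L f) (h : ES E z) (hL : L ≤ L') (hc : IsCharacter L' (fun x : L' => f' x))
    (heq : ∀ x ∈ L, f' x = f x) : IsExt E z L' f' where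
  char := hc
  le := hf.le.trans hL
  deg := by rw [heq 1 (one_mem _)]; exact hf.deg
  at_z := by rw [heq 1 (one_mem _), heq z (hf.le h.mem)]; exact hf.at_z
  off e he h1 h2 := by rw [heq e (hf.le he)]; exact hf.off e he h1 h2

/-- An irreducible character separating `z` from the identity is the faithful one. -/
theorem isExt_of_irr [Finite G] {E : Subgroup G} {z : G} (h : ES E z) {θ : E → ℂ} (hθ : IsIrrCharacter E θ)
    (hne : θ ⟨z, h.mem⟩ ≠ θ 1) {f : G → ℂ} (hf : ∀ x : E, f x = θ x) : IsExt E z E f := by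
  classical
  have := Fintype.ofFinite E
  obtain ⟨m, ρ, hρ, rfl⟩ := id hθ
  set zE : E := ⟨z, h.mem⟩
  have hzc : zE ∈ Subgroup.center E := Subgroup.mem_center_iff.2 fun g => Subtype.ext (h.comm g g.2).eq.symm
  obtain ⟨ω, hω⟩ := exists_scalar_of_mem_center ρ hzc
  have hmul : ∀ a : E, ρ.character (zE * a) = ω * ρ.character a := fun a => by
    simp only [Representation.character, map_mul, hω, ← Module.End.one_eq_id, smul_mul_assoc, one_mul,
      map_smul, smul_eq_mul]
  have h1 : ρ.character zE = ω * ρ.character 1 := by simpa using hmul 1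
  have hd0 : ρ.character 1 ≠ 0 := irr_ne_zero hθ
  have hω2 : ω * ω = 1 := by
    have e := hmul zE
    rw [show zE * zE = 1 from Subtype.ext h.sq, h1, ← mul_assoc] at e
    exact (mul_eq_right₀ hd0).1 e.symm
  have hω : ω = -1 := by
    rcases mul_self_eq_one_iff.1 hω2 with e | e
    · exact absurd (by rw [h1, e, one_mul]) hne
    · exact e
  subst hω
  have hoff : ∀ e : E, e ≠ 1 → e ≠ zE → ρ.character e = 0 := by
    intro e he1 hez
    obtain ⟨b, hb⟩ : ∃ b : E, b * e * b⁻¹ ≠ e := by
      by_contra hall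
      push Not at hall
      rcases h.center e e.2 (fun b hb => (mul_inv_eq_iff_eq_mul.1 (congrArg Subtype.val (hall ⟨b, hb⟩))).symm) with
        c | c
      · exact he1 (Subtype.ext c)
      · exact hez (Subtype.ext c)
    have hze : b * e * b⁻¹ = zE * e := by
      rcases h.derived b b.2 e e.2 with c | c
      · refine absurd ?_ hb
        rw [← mul_inv_eq_one]
        exact Subtype.ext (by simpa [commutatorElement_def] using c)
      · apply Subtype.ext
        show (b : G) * e * (b : G)⁻¹ = z * e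
        rw [← c, commutatorElement_def, inv_mul_cancel_right]
    have h2 := ρ.char_conj e b
    rw [hze, hmul] at h2
    linear_combination (-(1 / 2 : ℂ)) * h2
  have hnorm := classInner_irr_self hθ
  simp only [classInner] at hnorm
  have hne' : (1 : E) ≠ zE := fun e => h.ne (congrArg Subtype.val e).symm
  rw [Finset.sum_eq_add_of_mem (1 : E) zE (Finset.mem_univ _) (Finset.mem_univ _) hne'
    (fun c _ hc => by rw [hoff c hc.1 hc.2, zero_mul]), h1] at hnorm
  have hd : ρ.character 1 = (Module.finrank ℂ (Fin m → ℂ) : ℂ) := ρ.char_one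
  rw [inv_mul_eq_one₀ (Nat.cast_ne_zero.2 Nat.card_pos.ne'), hd, map_mul, map_neg, map_one, Complex.conj_natCast]
    at hnorm
  have f1 : f 1 = ρ.character 1 := hf 1
  refine ⟨?_, le_rfl, ?_, ?_, fun e he h1' h2' => ?_⟩
  · rw [show (fun x : E => f x) = ρ.character from funext hf]; exact ⟨m, ρ, rfl⟩
  · rw [f1, hd, hnorm]; ring
  · rw [f1, show f z = ρ.character zE from hf zE, h1]; ring
  · rw [show f e = ρ.character ⟨e, he⟩ from hf ⟨e, he⟩]
    exact hoff _ (fun c => h1' (congrArg Subtype.val c)) (fun c => h2' (congrArg Subtype.val c))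

/-- There is a faithful character. -/
theorem exists_isExt [Finite G] {E : Subgroup G} {z : G} (h : ES E z) : ∃ f, IsExt E z E f := by
  classical
  have := Fintype.ofFinite E
  obtain ⟨θ, hθ⟩ : ∃ θ : IrrCharacter E, (θ : E → ℂ) ⟨z, h.mem⟩ ≠ (θ : E → ℂ) 1 := by
    by_contra hall
    push Not at hall
    exact h.ne (congrArg Subtype.val (isConj_one_left.1 (isConj_of_forall_irr hall)))
  obtain ⟨f, hf⟩ := exists_fun (θ : E → ℂ)
  exact ⟨f, isExt_of_irr h θ.2 hθ hf⟩

end CfsgLib.ExtraExtend
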