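import Cfsg.Agent.Lib.ExtraExtend.Basic

/-!
The product of the extensions over the factors of a central product.
-/

set_option autoImplicit false
set_option linter.unusedSectionVars false
set_option linter.style.haveILetI false

namespace CfsgLib.ExtraExtend

open Cfsg CfsgLib Subgroup CfsgLib.CharTheory
open scoped commutatorElement

universe u
variable {G : Type u} [Group G]

/-- The triples `(e₁x, e₂x, x)`. -/
def tripleGroup (E₁ E₂ P : Subgroup G) (h₁ : P ≤ normalizer (E₁ : Set G)) (h₂ : P ≤ normalizer (E₂ : Set G)) :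
    Subgroup (G × G × G) where
  carrier := {w | w.2.2 ∈ P ∧ w.1 * w.2.2⁻¹ ∈ E₁ ∧ w.2.1 * w.2.2⁻¹ ∈ E₂}
  one_mem' := ⟨one_mem _, by simp, by simp⟩
  mul_mem' := by
    rintro ⟨a, b, x⟩ ⟨a', b', x'⟩ ⟨hx, ha, hb⟩ ⟨hx', ha', hb'⟩
    refine ⟨mul_mem hx hx', ?_, ?_⟩
    · show a * a' * (x * x')⁻¹ ∈ E₁
      rw [show a * a' * (x * x')⁻¹ = a * x⁻¹ * (x * (a' * x'⁻¹) * x⁻¹) by group]
      exact mul_mem ha ((Subgroup.mem_normalizer_iff.mp (h₁ hx) _).mp ha')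
    · show b * b' * (x * x')⁻¹ ∈ E₂
      rw [show b * b' * (x * x')⁻¹ = b * x⁻¹ * (x * (b' * x'⁻¹) * x⁻¹) by group]
      exact mul_mem hb ((Subgroup.mem_normalizer_iff.mp (h₂ hx) _).mp hb')
  inv_mem' := by
    rintro ⟨a, b, x⟩ ⟨hx, ha, hb⟩
    refine ⟨inv_mem hx, ?_, ?_⟩
    · show a⁻¹ * x⁻¹⁻¹ ∈ E₁
      rw [show a⁻¹ * x⁻¹⁻¹ = x⁻¹ * (a * x⁻¹)⁻¹ * x⁻¹⁻¹ by group]
      exact (Subgroup.mem_normalizer_iff.mp (h₁ (inv_mem hx)) _).mp (inv_mem ha)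
    · show b⁻¹ * x⁻¹⁻¹ ∈ E₂
      rw [show b⁻¹ * x⁻¹⁻¹ = x⁻¹ * (b * x⁻¹)⁻¹ * x⁻¹⁻¹ by group]
      exact (Subgroup.mem_normalizer_iff.mp (h₂ (inv_mem hx)) _).mp (inv_mem hb)

theorem card_mul_eq [Finite G] {E E₁ E₂ : Subgroup G} {z : G} (h : ES E z) (hz₁ : z ∈ E₁) (hz₂ : z ∈ E₂)
    (hcomm : ∀ a ∈ E₁, ∀ b ∈ E₂, Commute a b) (hsup : ∀ e ∈ E, ∃ a ∈ E₁, ∃ b ∈ E₂, a * b = e)
    (hle₁ : E₁ ≤ E) (hle₂ : E₂ ≤ E) (hinter : ∀ a ∈ E₁, a ∈ E₂ → a = 1 ∨ a = z) :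
    Nat.card E₁ * Nat.card E₂ = Nat.card E * 2 := by
  let φ : E₁ × E₂ →* E :=
    { toFun := fun w => ⟨w.1 * w.2, mul_mem (hle₁ w.1.2) (hle₂ w.2.2)⟩
      map_one' := Subtype.ext (by simp)
      map_mul' := fun v w => Subtype.ext (by
        push_cast
        show (v.1 : G) * w.1 * (v.2 * w.2) = v.1 * v.2 * (w.1 * w.2)
        rw [(hcomm _ w.1.2 _ v.2.2).mul_mul_mul_comm]) }
  have hsurj : Function.Surjective φ := fun ⟨e, he⟩ => by
    obtain ⟨a, ha, b, hb, hab⟩ := hsup e he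
    exact ⟨(⟨a, ha⟩, ⟨b, hb⟩), Subtype.ext hab⟩
  have hker : Nat.card φ.ker = 2 := by
    rw [Nat.card_eq_two_iff]
    refine ⟨1, ⟨(⟨z, hz₁⟩, ⟨z, hz₂⟩), Subtype.ext h.sq⟩, fun e => h.ne ?_, ?_⟩
    · exact (congrArg (fun w : φ.ker => ((w.1.1 : E₁) : G)) e).symm
    · rw [Set.eq_univ_iff_forall]
      rintro ⟨⟨⟨a, ha⟩, ⟨b, hb⟩⟩, hw⟩
      have hab : a * b = 1 := congrArg Subtype.val (MonoidHom.mem_ker.1 hw)
      have hb' : b = a⁻¹ := (inv_eq_of_mul_eq_one_right hab).symm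
      subst hb'
      rcases hinter a ha ((inv_mem_iff).1 hb) with rfl | rfl
      · left; exact Subtype.ext (Prod.ext rfl (Subtype.ext inv_one))
      · right
        exact Set.mem_singleton_iff.2 (Subtype.ext (Prod.ext rfl (Subtype.ext h.inv_z)))
  rw [← Nat.card_prod, ← Subgroup.card_mul_index φ.ker, Subgroup.index_ker,
    MonoidHom.range_eq_top.2 hsurj, Subgroup.card_top, hker, mul_comm]

/-- Extensions over two commuting factors multiply. -/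
theorem exists_split [Finite G] {E E₁ E₂ P : Subgroup G} {z : G} (h : ES E z)
    (hle₁ : E₁ ≤ E) (hle₂ : E₂ ≤ E) (hz₁ : z ∈ E₁) (hz₂ : z ∈ E₂) (hcomm : ∀ a ∈ E₁, ∀ b ∈ E₂, Commute a b)
    (hsup : ∀ e ∈ E, ∃ a ∈ E₁, ∃ b ∈ E₂, a * b = e) (hinter : ∀ a ∈ E₁, a ∈ E₂ → a = 1 ∨ a = z)
    (hP₁ : P ≤ normalizer (E₁ : Set G)) (hP₂ : P ≤ normalizer (E₂ : Set G)) (hEP : ∀ x ∈ E, x ∈ P → x = 1)
    {f₁ f₂ : G → ℂ} (hf₁ : IsExt E₁ z (E₁ ⊔ P) f₁) (hf₂ : IsExt E₂ z (E₂ ⊔ P) f₂) :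
    ∃ f, IsExt E z (E ⊔ P) f ∧
      ∀ a ∈ E₁, ∀ b ∈ E₂, ∀ x ∈ P, f (a * b * x) = f₁ (a * x) * f₂ (b * x) := by
  set T := tripleGroup E₁ E₂ P hP₁ hP₂ with hT
  set L := E ⊔ P
  let π : T →* L :=
    { toFun := fun w => ⟨w.1.1 * w.1.2.2⁻¹ * w.1.2.1, by
        obtain ⟨⟨a, b, x⟩, hx, ha, hb⟩ := w
        show a * x⁻¹ * b ∈ L
        rw [show a * x⁻¹ * b = (a * x⁻¹) * ((b * x⁻¹) * x) by group]
        exact mul_mem (Subgroup.mem_sup_left (hle₁ ha))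
          (mul_mem (Subgroup.mem_sup_left (hle₂ hb)) (Subgroup.mem_sup_right hx))⟩
      map_one' := Subtype.ext (by simp)
      map_mul' := fun v w => by
        obtain ⟨⟨a, b, x⟩, hx, ha, hb⟩ := v
        obtain ⟨⟨a', b', x'⟩, hx', ha', hb'⟩ := w
        apply Subtype.ext
        show a * a' * (x * x')⁻¹ * (b * b') = a * x⁻¹ * b * (a' * x'⁻¹ * b')
        have hc := hcomm _ ((Subgroup.mem_normalizer_iff.mp (hP₁ hx) _).mp ha') _ hb
        calc a * a' * (x * x')⁻¹ * (b * b')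
            = a * x⁻¹ * ((x * (a' * x'⁻¹) * x⁻¹) * (b * x⁻¹)) * (x * b') := by group
          _ = a * x⁻¹ * ((b * x⁻¹) * (x * (a' * x'⁻¹) * x⁻¹)) * (x * b') := by rw [hc.eq]
          _ = a * x⁻¹ * b * (a' * x'⁻¹ * b') := by group }
  have hmem : ∀ a ∈ E₁, ∀ b ∈ E₂, ∀ x ∈ P, ((a * x, b * x, x) : G × G × G) ∈ T := fun a ha b hb x hx =>
    ⟨hx, by simpa using ha, by simpa using hb⟩
  have hnorm : P ≤ normalizer (E : Set G) := by
    intro x hx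
    rw [Subgroup.mem_normalizer_iff]
    have key : ∀ x ∈ P, ∀ e ∈ E, x * e * x⁻¹ ∈ E := by
      intro x hx e he
      obtain ⟨a, ha, b, hb, rfl⟩ := hsup e he
      rw [show x * (a * b) * x⁻¹ = (x * a * x⁻¹) * (x * b * x⁻¹) by group]
      exact mul_mem (hle₁ ((Subgroup.mem_normalizer_iff.mp (hP₁ hx) _).mp ha))
        (hle₂ ((Subgroup.mem_normalizer_iff.mp (hP₂ hx) _).mp hb))
    refine fun e => ⟨key x hx e, fun he => ?_⟩
    have := key x⁻¹ (inv_mem hx) _ he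
    simpa [mul_assoc] using this
  have hsurj : Function.Surjective π := by
    rintro ⟨y, hy⟩
    obtain ⟨e, he, x, hx, rfl⟩ : ∃ e ∈ E, ∃ x ∈ P, e * x = y := by
      rw [← SetLike.mem_coe, Subgroup.coe_mul_of_right_le_normalizer_left E P hnorm] at hy
      exact Set.mem_mul.1 hy
    obtain ⟨a, ha, b, hb, rfl⟩ := hsup e he
    exact ⟨⟨_, hmem a ha b hb x hx⟩, Subtype.ext (show a * x * x⁻¹ * (b * x) = a * b * x by group)⟩
  let p₁ : T →* ↥(E₁ ⊔ P) :=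
    ((MonoidHom.fst G (G × G)).comp T.subtype).codRestrict _ fun w => by
      obtain ⟨⟨a, b, x⟩, hx, ha, hb⟩ := w
      show a ∈ E₁ ⊔ P
      simpa using mul_mem (Subgroup.mem_sup_left ha : a * x⁻¹ ∈ E₁ ⊔ P) (Subgroup.mem_sup_right hx)
  let p₂ : T →* ↥(E₂ ⊔ P) :=
    (((MonoidHom.fst G G).comp (MonoidHom.snd G (G × G))).comp T.subtype).codRestrict _ fun w => by
      obtain ⟨⟨a, b, x⟩, hx, ha, hb⟩ := w
      show b ∈ E₂ ⊔ P
      simpa using mul_mem (Subgroup.mem_sup_left hb : b * x⁻¹ ∈ E₂ ⊔ P) (Subgroup.mem_sup_right hx)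
  set χ : T → ℂ := fun w => f₁ (p₁ w : G) * f₂ (p₂ w : G) with hχdef
  have hχ : IsCharacter T χ := isCharacter_mul (isCharacter_comp hf₁.char p₁) (isCharacter_comp hf₂.char p₂)
  have hzero : ∀ w ∈ π.ker, χ w = χ 1 := by
    rintro ⟨⟨a, b, x⟩, hx, ha, hb⟩ hw
    have h1 : a * x⁻¹ * b = 1 := congrArg Subtype.val (MonoidHom.mem_ker.1 hw)
    have hx1 : x = 1 := by
      refine hEP x ?_ hx
      have h2 : (a * x⁻¹ * (b * x⁻¹))⁻¹ = x := by
        calc (a * x⁻¹ * (b * x⁻¹))⁻¹ = ((a * x⁻¹ * b) * x⁻¹)⁻¹ := by group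
          _ = x := by rw [h1]; group
      rw [← h2]
      exact inv_mem (mul_mem (hle₁ ha) (hle₂ hb))
    subst hx1
    have haE : a ∈ E₁ := by simpa using ha
    have hbE : b ∈ E₂ := by simpa using hb
    simp only [inv_one, mul_one] at h1
    have hb' : b = a⁻¹ := (inv_eq_of_mul_eq_one_right h1).symm
    subst hb'
    show f₁ a * f₂ a⁻¹ = f₁ 1 * f₂ 1
    rcases hinter a haE (inv_mem_iff.1 hbE) with rfl | rfl
    · rw [inv_one]
    · rw [h.inv_z, hf₁.at_z, hf₂.at_z]; ring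
  obtain ⟨ψ, hψ, hψe⟩ := exists_quotient_char π.ker hχ hzero
  let e := QuotientGroup.quotientKerEquivOfSurjective π hsurj
  obtain ⟨f, hf⟩ := exists_fun (fun y : L => ψ (e.symm y))
  have hval : ∀ w : T, f (π w : G) = χ w := by
    intro w
    rw [hf (π w), hψe]
    congr 1
    exact e.injective (by rw [MulEquiv.apply_symm_apply]; rfl)
  have hformula : ∀ a ∈ E₁, ∀ b ∈ E₂, ∀ x ∈ P, f (a * b * x) = f₁ (a * x) * f₂ (b * x) := by
    intro a ha b hb x hx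
    have := hval ⟨_, hmem a ha b hb x hx⟩
    rw [show ((π ⟨_, hmem a ha b hb x hx⟩ : L) : G) = a * b * x from
      show a * x * x⁻¹ * (b * x) = a * b * x by group] at this
    exact this
  have h1 : f 1 = f₁ 1 * f₂ 1 := by
    have := hformula 1 (one_mem _) 1 (one_mem _) 1 (one_mem _)
    simpa using this
  refine ⟨f, ⟨?_, le_sup_left, ?_, ?_, ?_⟩, hformula⟩
  · rw [show (fun y : L => f y) = fun y : L => ψ (e.symm y) from funext hf]
    exact isCharacter_comp hψ e.symm.toMonoidHom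
  · have hc : (Nat.card E₁ : ℂ) * Nat.card E₂ = Nat.card E * 2 := by
      exact_mod_cast card_mul_eq h hz₁ hz₂ hcomm hsup hle₁ hle₂ hinter
    rw [← hf₁.deg, ← hf₂.deg] at hc
    rw [h1]
    linear_combination (1 / 2 : ℂ) * hc
  · have := hformula z hz₁ 1 (one_mem _) 1 (one_mem _)
    simp only [mul_one, one_mul] at this
    rw [this, hf₁.at_z, h1]; ring
  · intro y hy hy1 hyz
    obtain ⟨a, ha, b, hb, rfl⟩ := hsup y hy
    have := hformula a ha b hb 1 (one_mem _)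
    simp only [mul_one] at this
    rw [this]
    by_cases ha' : a = 1 ∨ a = z
    · have hb1 : b ≠ 1 ∧ b ≠ z := by
        constructor <;> rintro rfl <;> rcases ha' with rfl | rfl
        · exact hy1 (by simp)
        · exact hyz (by simp)
        · exact hyz (by simp)
        · exact hy1 h.sq
      rw [hf₂.off b hb hb1.1 hb1.2, mul_zero]
    · push Not at ha'
      rw [hf₁.off a ha ha'.1 ha'.2, zero_mul]

end CfsgLib.ExtraExtend
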